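import Groth.Prelude.Def_GmAct
import Groth.Agent.MagnetLib.Mono

/-!
# Morphisms out of the affine line times a scheme
-/

set_option autoImplicit false
set_option backward.isDefEq.respectTransparency false
set_option backward.isDefEq.respectTransparency.types false

universe u

open CategoryTheory CategoryTheory.Limits MonoidalCategory CartesianMonoidalCategory MonObj AlgebraicGeometry
open scoped TensorProduct Polynomial

noncomputable section

namespace Groth.Agent.LineExt

variable {R : Type u} [CommRing R]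

instance isIso_prodPt (B A : Type u) [CommRing B] [CommRing A] [Algebra R B] [Algebra R A] :
    IsIso (lift (CoactBr.pt (Algebra.TensorProduct.includeLeft : B →ₐ[R] B ⊗[R] A))
      (CoactBr.pt (Algebra.TensorProduct.includeRight : A →ₐ[R] B ⊗[R] A))) := by
  let f := lift (CoactBr.pt (Algebra.TensorProduct.includeLeft : B →ₐ[R] B ⊗[R] A))
      (CoactBr.pt (Algebra.TensorProduct.includeRight : A →ₐ[R] B ⊗[R] A))
  have e : f.left = (pullbackSpecIso R B A).inv := by
    apply pullback.hom_ext
    · exact (congrArg CommaMorphism.left (lift_fst (CoactBr.pt (Algebra.TensorProduct.includeLeft : B →ₐ[R] B ⊗[R] A))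
        (CoactBr.pt (Algebra.TensorProduct.includeRight : A →ₐ[R] B ⊗[R] A)))).trans (pullbackSpecIso_inv_fst R B A).symm
    · exact (congrArg CommaMorphism.left (lift_snd (CoactBr.pt (Algebra.TensorProduct.includeLeft : B →ₐ[R] B ⊗[R] A))
        (CoactBr.pt (Algebra.TensorProduct.includeRight : A →ₐ[R] B ⊗[R] A)))).trans (pullbackSpecIso_inv_snd R B A).symm
  haveI : IsIso f.left := by rw [e]; infer_instance
  haveI : IsIso ((Over.forget _).map f) := ‹IsIso f.left›
  exact isIso_of_reflects_iso f (Over.forget _)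

/-- The inclusion of the group in the line. -/
abbrev j (R : Type u) [CommRing R] : ThetaS.Gm R ⟶ ThetaS.Line R := CoactBr.pt (ThetaS.linePt (ThetaS.zPow R 1))

theorem act_j {T : Over (Spec (CommRingCat.of R))} (g h : T ⟶ ThetaS.Gm R) :
    lift g (h ≫ j R) ≫ (ThetaS.lineAction R).act = (g * h) ≫ j R := by
  suffices hu : lift (fst (ThetaS.Gm R) (ThetaS.Gm R)) (snd _ _ ≫ j R) ≫ (ThetaS.lineAction R).act =
      (fst _ _ * snd _ _) ≫ j R by
    have := congrArg (fun m => lift g h ≫ m) hu
    simpa only [← Category.assoc, comp_lift, MonObj.comp_mul, lift_fst, lift_snd] using this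
  let iL : ThetaS.Lau R →ₐ[R] ThetaS.Lau R ⊗[R] ThetaS.Lau R := Algebra.TensorProduct.includeLeft
  let iR : ThetaS.Lau R →ₐ[R] ThetaS.Lau R ⊗[R] ThetaS.Lau R := Algebra.TensorProduct.includeRight
  rw [← cancel_epi (lift (CoactBr.pt iL) (CoactBr.pt iR)), ← Category.assoc, ← Category.assoc, comp_lift, lift_fst,
    ← Category.assoc (lift (CoactBr.pt iL) (CoactBr.pt iR)) (snd _ _), lift_snd, MonObj.comp_mul, lift_fst, lift_snd]
  have e : CoactBr.pt iR ≫ j R = CoactBr.pt (ThetaS.linePt (iR (ThetaS.zPow R 1))) := by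
    rw [j, ← CoactBr.pt_comp]
    exact congrArg CoactBr.pt (Polynomial.algHom_ext (by simp))
  rw [e]
  refine (ThetaS.lineAction_pt iL _).trans ?_
  rw [CoactBr.pt_mul_pt, j, ← CoactBr.pt_comp]
  refine congrArg CoactBr.pt (Polynomial.algHom_ext ?_)
  simp [iL, iR, Bialgebra.comulAlgHom_apply]

theorem ext_affine (A : Type u) [CommRing A] [Algebra R A] {X : Over (Spec (CommRingCat.of R))} [IsSeparated X.hom]
    (φ ψ : ThetaS.Line R ⊗ CoactBr.sp R A ⟶ X) (h : (j R ▷ CoactBr.sp R A) ≫ φ = (j R ▷ CoactBr.sp R A) ≫ ψ) :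
    φ = ψ := by
  let eP := lift (CoactBr.pt (Algebra.TensorProduct.includeLeft : R[X] →ₐ[R] R[X] ⊗[R] A))
      (CoactBr.pt (Algebra.TensorProduct.includeRight : A →ₐ[R] R[X] ⊗[R] A))
  let eL := lift (CoactBr.pt (Algebra.TensorProduct.includeLeft : ThetaS.Lau R →ₐ[R] ThetaS.Lau R ⊗[R] A))
      (CoactBr.pt (Algebra.TensorProduct.includeRight : A →ₐ[R] ThetaS.Lau R ⊗[R] A))
  let J : R[X] →ₐ[R] ThetaS.Lau R := ThetaS.linePt (ThetaS.zPow R 1)
  let J' : R[X] ⊗[R] A →ₐ[R] ThetaS.Lau R ⊗[R] A := Algebra.TensorProduct.map J (AlgHom.id R A)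
  have hcomm : CoactBr.pt J' ≫ eP = eL ≫ (j R ▷ CoactBr.sp R A) := by
    simp only [eP, eL, comp_lift, j, ← CoactBr.pt_comp, lift_whiskerRight]
    congr 2
    ext a
    simp [J']
  haveI : IsAffine (CoactBr.sp R (R[X] ⊗[R] A)).left := inferInstanceAs (IsAffine (Spec (CommRingCat.of (R[X] ⊗[R] A))))
  haveI : IsAffine (CoactBr.sp R (ThetaS.Lau R ⊗[R] A)).left :=
    inferInstanceAs (IsAffine (Spec (CommRingCat.of (ThetaS.Lau R ⊗[R] A))))
  rw [← cancel_epi eP]
  refine Over.OverMorphism.ext (MagnetLib.ext_of_appTop_injective X.hom (by simp) (CoactBr.pt J').left ?_ ?_)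
  · intro a b hab
    apply (ConcreteCategory.bijective_of_isIso (Scheme.ΓSpecIso (CommRingCat.of (R[X] ⊗[R] A))).hom).1
    have hn := Scheme.ΓSpecIso_naturality (CommRingCat.ofHom J'.toRingHom)
    let r : ThetaS.Lau R →ₗ[R] R[X] :=
      (Finsupp.lsum R fun i : Multiplicative ℤ => (LinearMap.toSpanSingleton R R[X] (Polynomial.X ^ i.toAdd.toNat))).comp
        (MonoidAlgebra.coeffLinearEquiv R).toLinearMap
    have hr : r.comp J.toLinearMap = LinearMap.id := by
      refine Polynomial.lhom_ext' fun n => LinearMap.ext_ring ?_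
      show r (J (Polynomial.monomial n 1)) = Polynomial.monomial n 1
      have hJ : J (Polynomial.monomial n 1) = MonoidAlgebra.single (Multiplicative.ofAdd (n : ℤ)) 1 := by
        simp [J, ThetaS.zPow, MonoidAlgebra.single_pow, ← ofAdd_nsmul]
      rw [hJ]
      simp [r, Polynomial.monomial_one_right_eq_X_pow]
    have hinj : Function.Injective J' := by
      refine Function.LeftInverse.injective (g := LinearMap.rTensor A r) fun x => ?_
      have h2 : (LinearMap.rTensor A r).comp (LinearMap.rTensor A J.toLinearMap) = LinearMap.id := by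
        rw [← LinearMap.rTensor_comp, hr, LinearMap.rTensor_id]
      have h3 : J' x = LinearMap.rTensor A J.toLinearMap x := by
        induction x using TensorProduct.induction_on with
        | zero => simp
        | tmul p q => simp [J']
        | add p q hp hq => rw [map_add, map_add, hp, hq]
      rw [h3]
      exact LinearMap.congr_fun h2 x
    apply hinj
    have ha := congrArg (fun q => q.hom a) hn
    have hb := congrArg (fun q => q.hom b) hn
    simp only [CommRingCat.hom_comp, RingHom.comp_apply] at ha hb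
    exact ha.symm.trans ((congrArg _ hab).trans hb)
  · rw [← Over.comp_left, ← Over.comp_left, ← Category.assoc, ← Category.assoc, hcomm, Category.assoc, Category.assoc, h]

theorem ext_line {T X : Over (Spec (CommRingCat.of R))} [IsSeparated X.hom] (φ ψ : ThetaS.Line R ⊗ T ⟶ X)
    (h : (j R ▷ T) ≫ φ = (j R ▷ T) ≫ ψ) : φ = ψ := by
  apply Over.OverMorphism.ext
  refine (Scheme.Pullback.openCoverOfRight T.left.affineOpenCover.openCover (ThetaS.Line R).hom T.hom).hom_ext _ _ fun i => ?_
  let Ai := T.left.affineOpenCover.X i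
  letI : Algebra R Ai := (Spec.preimage (T.left.affineOpenCover.f i ≫ T.hom)).hom.toAlgebra
  let T' : Over (Spec (CommRingCat.of R)) := Over.mk (T.left.affineOpenCover.f i ≫ T.hom)
  let w : CoactBr.sp R Ai ≅ T' := Over.isoMk (Iso.refl _) (by
    show 𝟙 _ ≫ T.left.affineOpenCover.f i ≫ T.hom = Spec.map (CommRingCat.ofHom (algebraMap R Ai))
    rw [Category.id_comp]
    exact (Spec.map_preimage _).symm)
  let v : T' ⟶ T := Over.homMk (T.left.affineOpenCover.f i)
  have h' : (ThetaS.Line R ◁ v) ≫ φ = (ThetaS.Line R ◁ v) ≫ ψ := by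
    rw [← cancel_epi (ThetaS.Line R ◁ w.hom)]
    refine ext_affine Ai _ _ ?_
    rw [← whisker_exchange_assoc, ← whisker_exchange_assoc, ← whisker_exchange_assoc, ← whisker_exchange_assoc, h]
  have hu : (ThetaS.Line R ◁ v).left =
      (Scheme.Pullback.openCoverOfRight T.left.affineOpenCover.openCover (ThetaS.Line R).hom T.hom).f i := by
    apply pullback.hom_ext
    · erw [Over.whiskerLeft_left_fst v]
    · erw [Over.whiskerLeft_left_snd v]
  rw [← hu]
  exact congrArg (fun m => m.left) h'

theorem ext_line' {T X : Over (Spec (CommRingCat.of R))} [IsSeparated X.hom] (φ ψ : ThetaS.Line R ⊗ T ⟶ X)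
    (h : ∀ (T' : Over (Spec (CommRingCat.of R))) (g : T' ⟶ ThetaS.Gm R) (t : T' ⟶ T),
      lift (g ≫ j R) t ≫ φ = lift (g ≫ j R) t ≫ ψ) : φ = ψ := by
  refine ext_line φ ψ ?_
  have := h _ (fst (ThetaS.Gm R) T) (snd _ _)
  rwa [show lift (fst (ThetaS.Gm R) T ≫ j R) (snd _ _) = j R ▷ T by
    apply CartesianMonoidalCategory.hom_ext <;> simp] at this

end Groth.Agent.LineExt
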